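import Groth.Agent.PrufDimLib.Main
import Groth.Agent.CatLib.Basic
import Groth.Prelude.Def_Found

/-! Finitely generated algebras over finite-dimensional Prüfer domains are catenary. -/

set_option autoImplicit false

noncomputable section

namespace Groth.Agent.PrufDimLib

universe u

variable {R S : Type u} [CommRing R] [IsDomain R] [CommRing S] [Algebra R S] [Algebra.FiniteType R S]
  (hR : ∀ (p : Ideal R) [p.IsPrime], PrufAt p) (hdim : ringKrullDim R < ⊤)

theorem exists_delta_bounds [Nontrivial R] (hdim : ringKrullDim R < ⊤) :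
    ∃ n D : ℕ, ∀ P : PrimeSpectrum S, delta (R := R) P.asIdeal ≤ n ∧ -(D : ℤ) ≤ delta (R := R) P.asIdeal := by
  obtain ⟨n, f, hf⟩ := Algebra.FiniteType.iff_quotient_mvPolynomial''.1 (inferInstance : Algebra.FiniteType R S)
  obtain ⟨D, hD⟩ : ∃ D : ℕ, ringKrullDim R ≤ D := by
    have h0 := ringKrullDim_nonneg_of_nontrivial (R := R)
    obtain ⟨a, ha⟩ := WithBot.ne_bot_iff_exists.1 (ne_bot_of_le_ne_bot (by simp) h0)
    have hat : a ≠ ⊤ := fun h => by rw [← ha, h] at hdim; exact lt_irrefl _ hdim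
    obtain ⟨D, rfl⟩ := ENat.ne_top_iff_exists.1 hat
    exact ⟨D, by rw [← ha]; rfl⟩
  refine ⟨n, D, fun P => ?_⟩
  set p := P.asIdeal.under R
  have h1 : Algebra.trdeg (R ⧸ p) (S ⧸ P.asIdeal) ≤ n := by
    let ψ : MvPolynomial (Fin n) (R ⧸ p) →ₐ[R ⧸ p] S ⧸ P.asIdeal :=
      MvPolynomial.aeval fun i => Ideal.Quotient.mk P.asIdeal (f (MvPolynomial.X i))
    have hψ : Function.Surjective ψ := fun z => by
      obtain ⟨z, rfl⟩ := Ideal.Quotient.mk_surjective z
      obtain ⟨g, rfl⟩ := hf z
      refine ⟨MvPolynomial.map (algebraMap R (R ⧸ p)) g, ?_⟩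
      show MvPolynomial.aeval _ _ = _
      rw [MvPolynomial.aeval_map_algebraMap]
      show _ = ((Ideal.Quotient.mkₐ R P.asIdeal).comp f) g
      conv_rhs => rw [← MvPolynomial.aeval_X_left_apply g]
      exact (MvPolynomial.comp_aeval_apply (φ := (Ideal.Quotient.mkₐ R P.asIdeal).comp f) MvPolynomial.X g).symm
    refine (trdeg_le_of_surjective ψ hψ).trans (le_of_eq ?_)
    rw [MvPolynomial.trdeg_of_isDomain, Cardinal.mk_fin, Cardinal.lift_natCast]
  have h2 : p.height.toNat ≤ D := by
    have h3 := (Ideal.height_le_ringKrullDim_of_ne_top (I := p) (Ideal.IsPrime.ne_top inferInstance)).trans hD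
    have h4 : p.height ≤ (D : ℕ∞) := by exact_mod_cast h3
    simpa using ENat.toNat_le_toNat h4 (ENat.coe_ne_top D)
  have h5 := Cardinal.toNat_le_toNat h1 (Cardinal.natCast_lt_aleph0)
  rw [Cardinal.toNat_natCast] at h5
  show (Cardinal.toNat (Algebra.trdeg (R ⧸ p) (S ⧸ P.asIdeal)) : ℤ) - (p.height.toNat : ℤ) ≤ n ∧
    -(D : ℤ) ≤ (Cardinal.toNat (Algebra.trdeg (R ⧸ p) (S ⧸ P.asIdeal)) : ℤ) - (p.height.toNat : ℤ)
  constructor <;> omega

include hR hdim

theorem isCatenary_and_dim : CAlg.IsCatenary S ∧ ringKrullDim S < ⊤ := by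
  let δ : PrimeSpectrum S → ℤ := fun P => delta (R := R) P.asIdeal
  obtain ⟨n, D, hb⟩ := exists_delta_bounds (S := S) hdim
  have hstep : ∀ (s : LTSeries (PrimeSpectrum S)) (i : Fin (s.length + 1)), δ (s i) + (i : ℕ) ≤ δ s.head := by
    intro s i
    induction i using Fin.induction with
    | zero => simp [δ, RelSeries.head]
    | succ i ih =>
      have := (delta_lt_and hR hdim _ _ (s.step i : s i.castSucc < s i.succ)).1
      simp only [Fin.coe_castSucc, Fin.val_succ, Nat.cast_add, Nat.cast_one] at ih ⊢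
      simp only [δ] at ih ⊢
      omega
  have hlen : ∀ s : LTSeries (PrimeSpectrum S), s.length ≤ n + D := fun s => by
    have h1 := hstep s (Fin.last s.length)
    have h2 := (hb s.head).1
    have h3 := (hb (s (Fin.last _))).2
    simp only [Fin.val_last, δ] at h1
    omega
  have hsat : ∀ (s : LTSeries (PrimeSpectrum S)), (∀ i : Fin s.length, s (Fin.castSucc i) ⋖ s (Fin.succ i)) →
      ∀ i : Fin (s.length + 1), δ (s i) + (i : ℕ) = δ s.head := by
    intro s hs i
    induction i using Fin.induction with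
    | zero => simp [δ, RelSeries.head]
    | succ i ih =>
      have := (delta_lt_and hR hdim _ _ (s.step i : s i.castSucc < s i.succ)).2 (hs i)
      simp only [Fin.coe_castSucc, Fin.val_succ, Nat.cast_add, Nat.cast_one] at ih ⊢
      simp only [δ] at ih ⊢
      omega
  refine ⟨⟨fun _ _ _ => ⟨n + D, fun s _ _ => hlen s⟩, fun s t hh hl hs ht => ?_⟩, ?_⟩
  · have h1 := hsat s hs (Fin.last _)
    have h2 := hsat t ht (Fin.last _)
    simp only [Fin.val_last] at h1 h2
    rw [show s (Fin.last _) = s.last from rfl, hl, hh] at h1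
    rw [show t (Fin.last _) = t.last from rfl] at h2
    omega
  · have h : ringKrullDim S < (n + D + 1 : ℕ) := Order.krullDim_lt_coe_iff.2 fun l => Nat.lt_succ_of_le (hlen l)
    exact h.trans_le le_top

end Groth.Agent.PrufDimLib
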