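import Mathlib
import Groth.Agent.DimFormulaLib.Fibre
import Groth.Agent.PruferSLib.Basic

/-! Dimension theory of finitely generated domains over Prüfer domains, via Zariski's main theorem. -/

set_option autoImplicit false

noncomputable section

namespace Groth.Agent.PrufDimLib

universe u

variable {R S : Type u} [CommRing R] [CommRing S] [Algebra R S]

/-- The localisation at `q` is a valuation ring, elementwise. -/
def PrufAt (q : Ideal R) : Prop :=
  ∀ a b : R, ∃ c d : R, d ∉ q ∧ (a * d = b * c ∨ b * d = a * c)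

theorem prufAt_of_valuationRing [IsDomain R] (q : Ideal R) [q.IsPrime] (h : ValuationRing (Localization.AtPrime q)) :
    PrufAt q :=
  PruferSLib.exists_of_valuationRing q h

/-- In a finite family one member divides all others, locally at `q`. -/
theorem exists_max {q : Ideal R} [q.IsPrime] (h : PrufAt q) {α : Type*} (f : α → R) (s : Finset α)
    (hs : s.Nonempty) : ∃ i ∈ s, ∀ j ∈ s, ∃ d e, d ∉ q ∧ f j * d = f i * e := by
  classical
  induction hs using Finset.Nonempty.cons_induction with
  | singleton a =>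
    exact ⟨a, Finset.mem_singleton_self a, fun j hj =>
      ⟨1, 1, Ideal.one_notMem _, by rw [Finset.mem_singleton.1 hj]⟩⟩
  | cons a s ha hs ih =>
    obtain ⟨i, hi, hmax⟩ := ih
    obtain ⟨c, d, hd, hcd | hcd⟩ := h (f a) (f i)
    · refine ⟨i, Finset.mem_cons_of_mem hi, fun j hj => ?_⟩
      rcases Finset.mem_cons.1 hj with rfl | hj
      · exact ⟨d, c, hd, hcd⟩
      · exact hmax j hj
    · refine ⟨a, Finset.mem_cons_self a s, fun j hj => ?_⟩
      rcases Finset.mem_cons.1 hj with rfl | hj
      · exact ⟨1, 1, Ideal.one_notMem _, rfl⟩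
      · obtain ⟨d', e', hd', he'⟩ := hmax j hj
        exact ⟨d' * d, c * e', (Ideal.primeCompl q).mul_mem hd' hd, by
          linear_combination d * he' + e' * hcd⟩

variable [IsDomain R] [IsDomain S]

/-- Elements whose images are algebraically independent are algebraically independent. -/
theorem algebraicIndependent_lift (hinj : Function.Injective (algebraMap R S)) {R₀ E : Type u} [CommRing R₀]
    [CommRing E] [Algebra R₀ E] (ρ : R →+* R₀) (π : S →+* E)
    (hcomm : π.comp (algebraMap R S) = (algebraMap R₀ E).comp ρ) (q : Ideal R) [q.IsPrime]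
    (hρ : RingHom.ker ρ = q) (hq : PrufAt q) {ι : Type u} (x : ι → S)
    (hx : AlgebraicIndependent R₀ (π ∘ x)) : AlgebraicIndependent R x := by
  classical
  rw [algebraicIndependent_iff]
  intro g hg
  by_contra hg0
  obtain ⟨m₀, hm₀, hmax⟩ := exists_max hq g.coeff g.support (MvPolynomial.support_nonempty.2 hg0)
  choose! d e hd hde using hmax
  have hc₀ : g.coeff m₀ ≠ 0 := MvPolynomial.mem_support_iff.1 hm₀
  have he₀ : e m₀ = d m₀ := mul_left_cancel₀ hc₀ (hde m₀ hm₀).symm
  let D := ∏ m ∈ g.support, d m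
  let g' : MvPolynomial ι R :=
    ∑ m ∈ g.support, MvPolynomial.monomial m (e m * ∏ k ∈ g.support.erase m, d k)
  have hgg' : MvPolynomial.C D * g = MvPolynomial.C (g.coeff m₀) * g' := by
    conv_lhs => rw [g.as_sum]
    rw [Finset.mul_sum, Finset.mul_sum]
    refine Finset.sum_congr rfl fun m hm => ?_
    rw [MvPolynomial.C_mul_monomial, MvPolynomial.C_mul_monomial]
    congr 1
    show (∏ m ∈ g.support, d m) * g.coeff m = _
    rw [← Finset.mul_prod_erase _ _ hm, ← mul_assoc, ← hde m hm]
    ring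
  have hg' : MvPolynomial.aeval x g' = 0 := by
    have h := congrArg (MvPolynomial.aeval x) hgg'
    rw [map_mul, map_mul, hg, mul_zero, MvPolynomial.aeval_C] at h
    exact (mul_eq_zero.1 h.symm).resolve_left ((map_ne_zero_iff _ hinj).2 hc₀)
  have h0 : MvPolynomial.aeval (π ∘ x) (MvPolynomial.map ρ g') = 0 := by
    rw [MvPolynomial.aeval_def, MvPolynomial.eval₂_map, ← hcomm, ← map_zero π, ← hg', MvPolynomial.aeval_def,
      MvPolynomial.eval₂_comp_left]
  have h1 := algebraicIndependent_iff.1 hx _ h0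
  have h2 := congrArg (MvPolynomial.coeff m₀) h1
  rw [MvPolynomial.coeff_map, MvPolynomial.coeff_zero, ← RingHom.mem_ker, hρ] at h2
  have hcoeff : g'.coeff m₀ = ∏ m ∈ g.support, d m := by
    rw [MvPolynomial.coeff_sum, Finset.sum_eq_single m₀ (fun m _ hne => by
      rw [MvPolynomial.coeff_monomial, if_neg hne]) (fun h => absurd hm₀ h), MvPolynomial.coeff_monomial,
      if_pos rfl, he₀, Finset.mul_prod_erase _ _ hm₀]
  rw [hcoeff] at h2
  obtain ⟨m, hm, hm'⟩ := (inferInstance : q.IsPrime).prod_mem_iff.1 h2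
  exact hd m hm hm'

omit [IsDomain R] [IsDomain S] in
/-- A prime which is both maximal and minimal in its fibre is a point of quasi-finiteness. -/
theorem quasiFiniteAt_of_isolated [Algebra.FiniteType R S] (Q : PrimeSpectrum S)
    (h : ∀ Q' : PrimeSpectrum S, PrimeSpectrum.comap (algebraMap R S) Q' = PrimeSpectrum.comap (algebraMap R S) Q →
      (Q' ≤ Q ∨ Q ≤ Q') → Q' = Q) :
    Algebra.QuasiFiniteAt R Q.asIdeal := by
  refine Algebra.QuasiFiniteAt.of_isOpen_singleton_fiber Q ?_
  let p := PrimeSpectrum.comap (algebraMap R S) Q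
  let e := PrimeSpectrum.preimageHomeomorphFiber R S p
  let o := PrimeSpectrum.preimageOrderIsoFiber R S p
  haveI : IsNoetherianRing (p.asIdeal.Fiber S) := Algebra.FiniteType.isNoetherianRing p.asIdeal.ResidueField _
  haveI : IsJacobsonRing (p.asIdeal.Fiber S) := isJacobsonRing_of_finiteType (A := p.asIdeal.ResidueField)
  rw [← e.isOpen_image, Set.image_singleton]
  refine ((PrimeSpectrum.isOpen_singleton_tfae_of_isNoetherian_of_isJacobsonRing (e ⟨Q, rfl⟩)).out 0 2 rfl rfl).2 ⟨?_, ?_⟩
  · rw [PrimeSpectrum.isClosed_singleton_iff_isMaximal, ← PrimeSpectrum.isMax_iff]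
    intro y hy
    obtain ⟨⟨Q', hQ'⟩, rfl⟩ := o.surjective y
    have hle : Q ≤ Q' := o.le_iff_le.1 hy
    obtain rfl := h Q' hQ' (Or.inr hle)
    exact le_rfl
  · intro y z hyz hy
    rw [Set.mem_singleton_iff] at hy ⊢
    subst hy
    obtain ⟨⟨Q', hQ'⟩, rfl⟩ := o.surjective z
    rw [← PrimeSpectrum.le_iff_specializes] at hyz
    have hle : Q' ≤ Q := o.le_iff_le.1 hyz
    obtain rfl := h Q' hQ' (Or.inl hle)
    rfl

/-- An injective algebra of finite type quasi-finite at some prime is algebraic. -/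
theorem isAlgebraic_of_quasiFiniteAt [Algebra.FiniteType R S] (hinj : Function.Injective (algebraMap R S))
    (Q : Ideal S) [Q.IsPrime] [Algebra.QuasiFiniteAt R Q] : Algebra.IsAlgebraic R S := by
  haveI : FaithfulSMul R S := (faithfulSMul_iff_algebraMap_injective _ _).2 hinj
  obtain ⟨r, hrQ, hr, hm⟩ :=
    Algebra.zariskisMainProperty_iff.1 (Algebra.ZariskisMainProperty.of_finiteType (R := R) Q)
  have hr0 : r ≠ 0 := fun h => hrQ (h ▸ Q.zero_mem)
  refine ⟨fun x => ?_⟩
  obtain ⟨m, hmx⟩ := hm x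
  exact IsAlgebraic.of_mul (mem_nonZeroDivisors_of_ne_zero (pow_ne_zero m hr0))
    ((IsIntegral.pow hr m).isAlgebraic) hmx.isAlgebraic

omit [IsDomain R] in
/-- If `x` lifts a transcendence-generating family at `Q` and nothing below `Q` has the same trace on
`R[x]`, then `x` is a transcendence basis. -/
theorem trdeg_eq_of_isolated [IsDomain R] [Algebra.FiniteType R S] {R₀ E : Type u} [CommRing R₀] [CommRing E]
    [IsDomain E] [Algebra R₀ E] (ρ : R →+* R₀) (hρ : Function.Surjective ρ) (π : S →+* E)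
    (hπ : Function.Surjective π) (hcomm : π.comp (algebraMap R S) = (algebraMap R₀ E).comp ρ) {ι : Type u}
    [Finite ι] (x : ι → S) (hx : AlgebraicIndependent R x)
    (halg : Algebra.IsAlgebraic (Algebra.adjoin R₀ (Set.range (π ∘ x))) E)
    (hmin : ∀ Q' : Ideal S, Q'.IsPrime → Q' < RingHom.ker π →
      Q'.comap (MvPolynomial.aeval (R := R) x).toRingHom ≠
        (RingHom.ker π).comap (MvPolynomial.aeval (R := R) x).toRingHom) :
    Algebra.trdeg R S = Cardinal.mk ι := by
  let φ : MvPolynomial ι R →ₐ[R] S := MvPolynomial.aeval x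
  letI : Algebra (MvPolynomial ι R) S := φ.toRingHom.toAlgebra
  haveI : IsScalarTower R (MvPolynomial ι R) S := IsScalarTower.of_algebraMap_eq fun a => (φ.commutes a).symm
  haveI : Algebra.FiniteType (MvPolynomial ι R) S := Algebra.FiniteType.of_restrictScalars_finiteType R _ _
  have hφ : Function.Injective φ := hx
  haveI := RingHom.ker_isPrime π
  have hπφ : ∀ g, π (φ g) = MvPolynomial.aeval (π ∘ x) (MvPolynomial.map ρ g) := fun g => by
    show π (MvPolynomial.eval₂ (algebraMap R S) x g) = _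
    rw [MvPolynomial.eval₂_comp_left, hcomm, MvPolynomial.aeval_def, MvPolynomial.eval₂_map]
  haveI : Algebra.QuasiFiniteAt (MvPolynomial ι R) (RingHom.ker π) := by
    refine quasiFiniteAt_of_isolated (⟨RingHom.ker π, inferInstance⟩ : PrimeSpectrum S) fun Q' hQ' hor => ?_
    have hcomap : Q'.asIdeal.comap φ.toRingHom = (RingHom.ker π).comap φ.toRingHom :=
      congrArg PrimeSpectrum.asIdeal hQ'
    rcases hor with hle | hle
    · by_contra hne
      exact hmin Q'.asIdeal Q'.isPrime (lt_of_le_of_ne hle fun h => hne (PrimeSpectrum.ext h)) hcomap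
    · refine PrimeSpectrum.ext (le_antisymm (fun y hy => ?_) hle)
      by_contra hy0
      have hy' : π y ≠ 0 := hy0
      obtain ⟨⟨r, hr⟩, hr0, hdvd⟩ :=
        (halg.isAlgebraic (π y)).exists_nonzero_dvd (mem_nonZeroDivisors_of_ne_zero hy')
      obtain ⟨g₀, hg₀⟩ : ∃ g₀, MvPolynomial.aeval (R := R₀) (π ∘ x) g₀ = r := by
        rw [← AlgHom.mem_range, ← Algebra.adjoin_range_eq_range_aeval]
        exact hr
      obtain ⟨g, rfl⟩ := MvPolynomial.map_surjective ρ hρ g₀
      obtain ⟨z, hz⟩ := hdvd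
      obtain ⟨z', rfl⟩ := hπ z
      rw [← map_mul] at hz
      have hmem : φ g - y * z' ∈ RingHom.ker π := by
        rw [RingHom.mem_ker, map_sub, hπφ, hg₀, sub_eq_zero]
        exact hz
      have hgQ' : φ g ∈ Q'.asIdeal := by
        have := add_mem (hle hmem) (Q'.asIdeal.mul_mem_right z' hy)
        rwa [sub_add_cancel] at this
      have hgQ : φ g ∈ RingHom.ker π := by
        have h : g ∈ Q'.asIdeal.comap φ.toRingHom := hgQ'
        rw [hcomap] at h
        exact h
      rw [RingHom.mem_ker, hπφ, hg₀] at hgQ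
      exact hr0 (Subtype.ext hgQ)
  haveI := isAlgebraic_of_quasiFiniteAt (R := MvPolynomial ι R) (S := S) hφ (RingHom.ker π)
  refine (IsTranscendenceBasis.cardinalMk_eq_trdeg (x := x) ?_).symm
  refine hx.isTranscendenceBasis_iff_isAlgebraic.2 ⟨fun a => ?_⟩
  obtain ⟨P, hP0, hP⟩ := Algebra.IsAlgebraic.isAlgebraic (R := MvPolynomial ι R) a
  let f : MvPolynomial ι R →+* Algebra.adjoin R (Set.range x) :=
    φ.toRingHom.codRestrict (Algebra.adjoin R (Set.range x)) fun g => by
      rw [Algebra.adjoin_range_eq_range_aeval]; exact ⟨g, rfl⟩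
  refine ⟨P.map f, (Polynomial.map_ne_zero_iff fun g h hgh => hφ (congrArg Subtype.val hgh)).2 hP0, ?_⟩
  rw [Polynomial.aeval_def, Polynomial.eval₂_map]
  exact hP

end Groth.Agent.PrufDimLib
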