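import Groth.Agent.PrufDimLib.Core

/-! The dimension function on finitely generated algebras over Prüfer domains. -/

set_option autoImplicit false

noncomputable section

namespace Groth.Agent.PrufDimLib

universe u

open Cardinal

section GoingDown

variable {R S : Type u} [CommRing R] [IsDomain R] [CommRing S] [IsDomain S] [Algebra R S]

/-- Going down for torsion-free algebras over Prüfer domains. -/
theorem exists_prime_le (hinj : Function.Injective (algebraMap R S)) (Q : Ideal S) [Q.IsPrime]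
    (hq : PrufAt (Q.comap (algebraMap R S))) (q₁ : Ideal R) [q₁.IsPrime] (hle : q₁ ≤ Q.comap (algebraMap R S)) :
    ∃ Q₁ : Ideal S, Q₁.IsPrime ∧ Q₁ ≤ Q ∧ Q₁.comap (algebraMap R S) = q₁ := by
  set q := Q.comap (algebraMap R S)
  let M : Submonoid S := q₁.primeCompl.map (algebraMap R S) ⊔ Q.primeCompl
  have hdisj : Disjoint (q₁.map (algebraMap R S) : Set S) M := by
    have key : ∀ z ∈ q₁.map (algebraMap R S), ∃ c ∈ q₁, ∃ D ∉ q, ∃ y,
        algebraMap R S D * z = algebraMap R S c * y := by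
      intro z hz
      induction hz using Submodule.span_induction with
      | mem z hz =>
        obtain ⟨c, hc, rfl⟩ := hz
        exact ⟨c, hc, 1, Ideal.one_notMem q, 1, by simp⟩
      | zero => exact ⟨0, zero_mem _, 1, Ideal.one_notMem q, 0, by simp⟩
      | smul r z _ hz =>
        obtain ⟨c, hc, D, hD, y, h⟩ := hz
        exact ⟨c, hc, D, hD, r * y, by rw [smul_eq_mul, mul_left_comm, h, mul_left_comm]⟩
      | add z z' _ _ hz hz' =>
        obtain ⟨c, hc, D, hD, y, h⟩ := hz
        obtain ⟨c', hc', D', hD', y', h'⟩ := hz'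
        obtain ⟨k, g, hg, hk | hk⟩ := hq c c'
        · refine ⟨c', hc', g * (D * D'), q.primeCompl.mul_mem hg (q.primeCompl.mul_mem hD hD'),
            algebraMap R S (k * D') * y + algebraMap R S (g * D) * y', ?_⟩
          have h2 := congrArg (algebraMap R S) hk
          simp only [map_mul] at h2 ⊢
          linear_combination (algebraMap R S g * algebraMap R S D') * h +
            (algebraMap R S g * algebraMap R S D) * h' + (algebraMap R S D' * y) * h2
        · refine ⟨c, hc, g * (D * D'), q.primeCompl.mul_mem hg (q.primeCompl.mul_mem hD hD'),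
            algebraMap R S (g * D') * y + algebraMap R S (k * D) * y', ?_⟩
          have h2 := congrArg (algebraMap R S) hk
          simp only [map_mul] at h2 ⊢
          linear_combination (algebraMap R S g * algebraMap R S D') * h +
            (algebraMap R S g * algebraMap R S D) * h' + (algebraMap R S D * y') * h2
    rw [Set.disjoint_left]
    intro z hz hzM
    obtain ⟨_, ⟨a, ha, rfl⟩, s, hs, rfl⟩ := Submonoid.mem_sup.1 hzM
    obtain ⟨c, hc, D, hD, y, h⟩ := key _ hz
    obtain ⟨k, g, hg, hk | hk⟩ := hq a c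
    · have h3 : a * g ∈ q₁ := hk ▸ q₁.mul_mem_right k hc
      exact ((inferInstance : q₁.IsPrime).mem_or_mem h3).elim ha fun h4 => hg (hle h4)
    · have hkq : k ∈ q₁ := by
        have h3 : a * k ∈ q₁ := hk ▸ q₁.mul_mem_right g hc
        exact ((inferInstance : q₁.IsPrime).mem_or_mem h3).resolve_left ha
      have ha0 : algebraMap R S a ≠ 0 := (map_ne_zero_iff _ hinj).2 fun h0 => ha (h0 ▸ zero_mem q₁)
      have h4 : algebraMap R S (g * D) * s = algebraMap R S k * y := mul_left_cancel₀ ha0 (by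
        have h2 := congrArg (algebraMap R S) hk
        simp only [map_mul] at h2 ⊢
        linear_combination algebraMap R S g * h + y * h2)
      have h5 : algebraMap R S (g * D) * s ∈ Q := h4 ▸ Q.mul_mem_right y (hle hkq)
      exact ((inferInstance : Q.IsPrime).mem_or_mem h5).elim (fun h6 => (q.primeCompl.mul_mem hg hD) h6) hs
  obtain ⟨Q₁, hQ₁, hle₁, hdisj₁⟩ := Ideal.exists_le_prime_disjoint _ M hdisj
  refine ⟨Q₁, hQ₁, fun x hx => ?_, le_antisymm (fun r hr => ?_) (Ideal.map_le_iff_le_comap.1 hle₁)⟩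
  · by_contra hxQ
    exact Set.disjoint_left.1 hdisj₁ hx
      ((le_sup_right : Q.primeCompl ≤ M) hxQ)
  · by_contra hrq
    exact Set.disjoint_left.1 hdisj₁ (show algebraMap R S r ∈ Q₁ from hr)
      ((le_sup_left : q₁.primeCompl.map (algebraMap R S) ≤ M) ⟨r, hrq, rfl⟩)

end GoingDown

section Domain

variable {R S R₀ E : Type u} [CommRing R] [IsDomain R] [CommRing S] [IsDomain S] [Algebra R S]
  [CommRing R₀] [IsDomain R₀] [CommRing E] [IsDomain E] [Algebra R₀ E]
  (ρ : R →+* R₀) (π : S →+* E)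

theorem exists_lift_basis [Algebra.FiniteType R S] (hinj : Function.Injective (algebraMap R S))
    (hinj₀ : Function.Injective (algebraMap R₀ E)) [Algebra.FiniteType R₀ E]
    (hπ : Function.Surjective π) (hcomm : π.comp (algebraMap R S) = (algebraMap R₀ E).comp ρ)
    (hq : PrufAt (RingHom.ker ρ)) :
    ∃ (ι : Type u) (_ : Finite ι) (x : ι → S), AlgebraicIndependent R x ∧
      IsTranscendenceBasis R₀ (π ∘ x) ∧ Cardinal.mk ι = Algebra.trdeg R₀ E := by
  haveI : FaithfulSMul R₀ E := (faithfulSMul_iff_algebraMap_injective _ _).2 hinj₀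
  obtain ⟨ι, y, hy⟩ := exists_isTranscendenceBasis' R₀ E
  choose x hx using fun i => hπ (y i)
  have hyx : π ∘ x = y := funext hx
  have hcard := hy.cardinalMk_eq_trdeg
  haveI : Finite ι := Cardinal.lt_aleph0_iff_finite.1 (hcard ▸ trdeg_lt_aleph0_of_finiteType)
  refine ⟨ι, inferInstance, x, ?_, hyx ▸ hy, hcard⟩
  haveI := RingHom.ker_isPrime ρ
  exact algebraicIndependent_lift hinj ρ π hcomm (RingHom.ker ρ) rfl hq x (hyx ▸ hy.1)

omit [IsDomain R₀] [IsDomain E] in
theorem eq_zero_of_mem_adjoin_of_map (hcomm : π.comp (algebraMap R S) = (algebraMap R₀ E).comp ρ)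
    (hρ : Function.Injective ρ) {ι : Type u} (x : ι → S) (hx : AlgebraicIndependent R₀ (π ∘ x)) {r : S}
    (hr : r ∈ Algebra.adjoin R (Set.range x)) (h0 : π r = 0) : r = 0 := by
  rw [Algebra.adjoin_range_eq_range_aeval] at hr
  obtain ⟨g, rfl⟩ := hr
  have h1 : MvPolynomial.aeval (R := R₀) (π ∘ x) (MvPolynomial.map ρ g) = 0 := by
    rw [← h0]
    show _ = π (MvPolynomial.eval₂ (algebraMap R S) x g)
    rw [MvPolynomial.eval₂_comp_left, hcomm, MvPolynomial.aeval_def, MvPolynomial.eval₂_map]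
  have h2 := algebraicIndependent_iff.1 hx _ h1
  rw [MvPolynomial.map_injective ρ hρ (h2.trans (map_zero _).symm)]
  exact map_zero _

/-- An element of the kernel is transcendental over a lifted transcendence basis. -/
theorem transcendental_of_mem_ker (hcomm : π.comp (algebraMap R S) = (algebraMap R₀ E).comp ρ)
    (hρ : Function.Injective ρ) {ι : Type u} (x : ι → S) (hx : AlgebraicIndependent R₀ (π ∘ x)) {y : S}
    (hy : π y = 0) (hy0 : y ≠ 0) : Transcendental (Algebra.adjoin R (Set.range x)) y := by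
  intro halg
  obtain ⟨⟨r, hr⟩, hr0, z, hz⟩ := halg.exists_nonzero_dvd (mem_nonZeroDivisors_of_ne_zero hy0)
  refine hr0 (Subtype.ext (eq_zero_of_mem_adjoin_of_map ρ π hcomm hρ x hx hr ?_))
  show π r = 0
  rw [show r = y * z from hz, map_mul, hy, zero_mul]

variable [Algebra.FiniteType R S] [Algebra.FiniteType R₀ E] (hinj : Function.Injective (algebraMap R S))
  (hinj₀ : Function.Injective (algebraMap R₀ E)) (hπ : Function.Surjective π)
  (hcomm : π.comp (algebraMap R S) = (algebraMap R₀ E).comp ρ) (hq : PrufAt (RingHom.ker ρ))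

include hinj hinj₀ hπ hcomm hq

theorem trdeg_le : Algebra.trdeg R₀ E ≤ Algebra.trdeg R S := by
  obtain ⟨ι, _, x, hx, -, hc⟩ := exists_lift_basis ρ π hinj hinj₀ hπ hcomm hq
  exact hc ▸ hx.cardinalMk_le_trdeg

theorem trdeg_lt (hρ : Function.Injective ρ) (hker : RingHom.ker π ≠ ⊥) :
    Algebra.trdeg R₀ E < Algebra.trdeg R S := by
  obtain ⟨ι, _, x, hx, hb, hc⟩ := exists_lift_basis ρ π hinj hinj₀ hπ hcomm hq
  refine lt_of_le_of_ne (hc ▸ hx.cardinalMk_le_trdeg) fun he => ?_
  obtain ⟨y, hy, hy0⟩ := Submodule.exists_mem_ne_zero_of_ne_bot hker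
  haveI := (hx.isTranscendenceBasis_of_trdeg_le_of_finite (he ▸ hc.ge)).isAlgebraic
  exact transcendental_of_mem_ker ρ π hcomm hρ x hb.1 hy hy0 (Algebra.IsAlgebraic.isAlgebraic y)

theorem trdeg_eq_of_forall_lt (hρ : Function.Surjective ρ)
    (hmin : ∀ Q' : Ideal S, Q'.IsPrime → Q' < RingHom.ker π →
      Q'.comap (algebraMap R S) ≠ (RingHom.ker π).comap (algebraMap R S)) :
    Algebra.trdeg R₀ E = Algebra.trdeg R S := by
  obtain ⟨ι, _, x, hx, hb, hc⟩ := exists_lift_basis ρ π hinj hinj₀ hπ hcomm hq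
  rw [← hc, ← trdeg_eq_of_isolated ρ hρ π hπ hcomm x hx hb.isAlgebraic fun Q' hQ' hlt h => hmin Q' hQ' hlt ?_]
  ext r
  have := SetLike.ext_iff.1 h (MvPolynomial.C r)
  simpa [Ideal.mem_comap] using this

theorem trdeg_eq_add_one (hρ : Function.Surjective ρ) (hρi : Function.Injective ρ) (hker : RingHom.ker π ≠ ⊥)
    (hcov : ∀ Q' : Ideal S, Q'.IsPrime → Q' < RingHom.ker π → Q' = ⊥) :
    Algebra.trdeg R S = Algebra.trdeg R₀ E + 1 := by
  obtain ⟨ι, _, x, hx, hb, hc⟩ := exists_lift_basis ρ π hinj hinj₀ hπ hcomm hq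
  obtain ⟨y, hy, hy0⟩ := Submodule.exists_mem_ne_zero_of_ne_bot hker
  let x' : Option ι → S := fun o => o.elim y x
  have hx' : AlgebraicIndependent R x' :=
    (hx.option_iff_transcendental y).2 (transcendental_of_mem_ker ρ π hcomm hρi x hb.1 hy hy0)
  have hadj : Algebra.adjoin R₀ (Set.range (π ∘ x')) = Algebra.adjoin R₀ (Set.range (π ∘ x)) := by
    refine le_antisymm (Algebra.adjoin_le ?_) (Algebra.adjoin_mono ?_)
    · rintro _ ⟨_ | i, rfl⟩
      · show π y ∈ _
        rw [show π y = 0 from hy]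
        exact zero_mem _
      · exact Algebra.subset_adjoin ⟨i, rfl⟩
    · rintro _ ⟨i, rfl⟩
      exact ⟨some i, rfl⟩
  rw [trdeg_eq_of_isolated ρ hρ π hπ hcomm x' hx' (by rw [hadj]; exact hb.isAlgebraic)
    fun Q' hQ' hlt h => ?_, Cardinal.mk_option, hc]
  have h1 := (SetLike.ext_iff.1 h (MvPolynomial.X none)).2 (by
    show π (MvPolynomial.aeval x' (MvPolynomial.X none)) = 0
    rw [MvPolynomial.aeval_X]
    exact hy)
  rw [hcov Q' hQ' hlt] at h1
  exact hy0 (by simpa [x', Ideal.mem_comap] using h1)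

end Domain

section General

variable {R S : Type u} [CommRing R] [IsDomain R] [CommRing S] [Algebra R S] [Algebra.FiniteType R S]

/-- `δ(P) = trdeg κ(P) / κ(p) - ht p`. -/
def delta (P : Ideal S) [P.IsPrime] : ℤ :=
  (Cardinal.toNat (Algebra.trdeg (R ⧸ P.under R) (S ⧸ P)) : ℤ) - ((P.under R).height.toNat : ℤ)

variable (hR : ∀ (p : Ideal R) [p.IsPrime], PrufAt p) (hdim : ringKrullDim R < ⊤)

include hR hdim

theorem delta_lt_and (P Q : Ideal S) [P.IsPrime] [Q.IsPrime] (hPQ : P < Q) :
    delta (R := R) Q < delta (R := R) P ∧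
      ((⟨P, inferInstance⟩ : PrimeSpectrum S) ⋖ ⟨Q, inferInstance⟩ →
        delta (R := R) P = delta (R := R) Q + 1) := by
  classical
  set p := P.under R
  set q := Q.under R
  have hpq : p ≤ q := Ideal.comap_mono hPQ.le
  let ρ : R ⧸ p →+* R ⧸ q := Ideal.Quotient.factor hpq
  let π : S ⧸ P →+* S ⧸ Q := Ideal.Quotient.factor hPQ.le
  have hρ : Function.Surjective ρ := Ideal.Quotient.factor_surjective hpq
  have hπ : Function.Surjective π := Ideal.Quotient.factor_surjective hPQ.le
  have hcomm : π.comp (algebraMap (R ⧸ p) (S ⧸ P)) = (algebraMap (R ⧸ q) (S ⧸ Q)).comp ρ :=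
    Ideal.Quotient.ringHom_ext (RingHom.ext fun _ => rfl)
  have hinj : Function.Injective (algebraMap (R ⧸ p) (S ⧸ P)) := FaithfulSMul.algebraMap_injective _ _
  have hinj₀ : Function.Injective (algebraMap (R ⧸ q) (S ⧸ Q)) := FaithfulSMul.algebraMap_injective _ _
  have hkρ : ∀ a, Ideal.Quotient.mk p a ∈ RingHom.ker ρ ↔ a ∈ q := fun a => by
    rw [RingHom.mem_ker, Ideal.Quotient.factor_mk, Ideal.Quotient.eq_zero_iff_mem]
  have hkπ : ∀ a, Ideal.Quotient.mk P a ∈ RingHom.ker π ↔ a ∈ Q := fun a => by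
    rw [RingHom.mem_ker, Ideal.Quotient.factor_mk, Ideal.Quotient.eq_zero_iff_mem]
  have hq : PrufAt (RingHom.ker ρ) := fun a b => by
    obtain ⟨a, rfl⟩ := Ideal.Quotient.mk_surjective a
    obtain ⟨b, rfl⟩ := Ideal.Quotient.mk_surjective b
    obtain ⟨c, d, hd, h⟩ := hR q a b
    exact ⟨Ideal.Quotient.mk p c, Ideal.Quotient.mk p d, fun h' => hd ((hkρ d).1 h'),
      h.imp (fun h => by rw [← map_mul, ← map_mul, h]) fun h => by rw [← map_mul, ← map_mul, h]⟩
  haveI : Algebra.FiniteType (R ⧸ p) (S ⧸ P) := Algebra.FiniteType.of_restrictScalars_finiteType R _ _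
  haveI : Algebra.FiniteType (R ⧸ q) (S ⧸ Q) := Algebra.FiniteType.of_restrictScalars_finiteType R _ _
  have hfin : Algebra.trdeg (R ⧸ p) (S ⧸ P) < ℵ₀ := trdeg_lt_aleph0_of_finiteType
  have hker : RingHom.ker π ≠ ⊥ := by
    obtain ⟨y, hy, hyP⟩ := SetLike.exists_of_lt hPQ
    exact (Submodule.ne_bot_iff _).2
      ⟨Ideal.Quotient.mk P y, (hkπ y).2 hy, fun h => hyP (Ideal.Quotient.eq_zero_iff_mem.1 h)⟩
  have htop : ∀ a : Ideal R, a.IsPrime → a.height < ⊤ := fun a ha => by
    rw [lt_top_iff_ne_top]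
    intro h
    haveI := ha
    have h1 := Ideal.height_le_ringKrullDim_of_ne_top (I := a) ha.ne_top
    rw [h] at h1
    exact absurd (lt_of_le_of_lt h1 hdim) (lt_irrefl _)
  have hqfin : q.FiniteHeight := ⟨Or.inr (htop q inferInstance).ne⟩
  have hpfin : p.height ≠ ⊤ := (htop p inferInstance).ne
  have hqt : q.height ≠ ⊤ := (htop q inferInstance).ne
  show (Cardinal.toNat (Algebra.trdeg (R ⧸ q) (S ⧸ Q)) : ℤ) - (q.height.toNat : ℤ) <
      (Cardinal.toNat (Algebra.trdeg (R ⧸ p) (S ⧸ P)) : ℤ) - (p.height.toNat : ℤ) ∧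
    (_ → (Cardinal.toNat (Algebra.trdeg (R ⧸ p) (S ⧸ P)) : ℤ) - (p.height.toNat : ℤ) =
      (Cardinal.toNat (Algebra.trdeg (R ⧸ q) (S ⧸ Q)) : ℤ) - (q.height.toNat : ℤ) + 1)
  by_cases heq : p = q
  · have hρi : Function.Injective ρ := (injective_iff_map_eq_zero ρ).2 fun a ha => by
      obtain ⟨a, rfl⟩ := Ideal.Quotient.mk_surjective a
      exact Ideal.Quotient.eq_zero_iff_mem.2 (heq.ge ((hkρ a).1 ha))
    have hh : q.height = p.height := by rw [heq]
    refine ⟨?_, fun hcov => ?_⟩
    · have h1 := Cardinal.toNat_lt_toNat (trdeg_lt ρ π hinj hinj₀ hπ hcomm hq hρi hker) hfin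
      rw [hh]
      omega
    · have h1 := trdeg_eq_add_one ρ π hinj hinj₀ hπ hcomm hq hρ hρi hker fun Q' hQ' hlt => by
        by_contra hne
        obtain ⟨y, hy, hy0⟩ := Submodule.exists_mem_ne_zero_of_ne_bot hne
        obtain ⟨y, rfl⟩ := Ideal.Quotient.mk_surjective y
        obtain ⟨z, hz, hz'⟩ := SetLike.exists_of_lt hlt
        obtain ⟨z, rfl⟩ := Ideal.Quotient.mk_surjective z
        haveI := hQ'
        refine hcov.2 (c := ⟨Q'.comap (Ideal.Quotient.mk P), inferInstance⟩) ?_ ?_
        · show P < Q'.comap (Ideal.Quotient.mk P)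
          refine SetLike.lt_iff_le_and_exists.2 ⟨fun a ha => ?_, y, hy, fun h => hy0 ?_⟩
          · show Ideal.Quotient.mk P a ∈ Q'
            rw [Ideal.Quotient.eq_zero_iff_mem.2 ha]
            exact zero_mem _
          · exact Ideal.Quotient.eq_zero_iff_mem.2 h
        · show Q'.comap (Ideal.Quotient.mk P) < Q
          exact SetLike.lt_iff_le_and_exists.2 ⟨fun a ha => (hkπ a).1 (hlt.le ha), z, (hkπ z).1 hz, hz'⟩
      have hfin₀ : Algebra.trdeg (R ⧸ q) (S ⧸ Q) < ℵ₀ := trdeg_lt_aleph0_of_finiteType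
      rw [hh, show Cardinal.toNat (Algebra.trdeg (R ⧸ p) (S ⧸ P)) =
        Cardinal.toNat (Algebra.trdeg (R ⧸ q) (S ⧸ Q)) + 1 by
          rw [h1, Cardinal.toNat_add hfin₀ Cardinal.one_lt_aleph0, map_one]]
      push_cast
      ring
  · have hlt : p < q := lt_of_le_of_ne hpq heq
    refine ⟨?_, fun hcov => ?_⟩
    · have h1 := Cardinal.toNat_le_toNat (trdeg_le ρ π hinj hinj₀ hπ hcomm hq) hfin
      have h2 : p.height.toNat < q.height.toNat := by
        have h3 : p.height < q.height := Ideal.height_strict_mono_of_isPrime_of_isPrime hlt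
        obtain ⟨m, hm⟩ := ENat.ne_top_iff_exists.1 hpfin
        obtain ⟨n, hn⟩ := ENat.ne_top_iff_exists.1 hqt
        rw [← hm, ← hn] at h3 ⊢
        simpa using h3
      omega
    · have hbetween : ∀ Q' : Ideal S, Q'.IsPrime → P ≤ Q' → Q' ≤ Q → Q'.under R ≠ p → Q'.under R ≠ q → False := by
        intro Q' hQ' h1 h2 h3 h4
        exact hcov.2 (c := ⟨Q', hQ'⟩) (lt_of_le_of_ne h1 fun h => h3 (by have e : P = Q' := congrArg PrimeSpectrum.asIdeal h; subst e; rfl))
          (lt_of_le_of_ne h2 fun h => h4 (by have e : Q' = Q := congrArg PrimeSpectrum.asIdeal h; subst e; rfl))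
      have h1 := trdeg_eq_of_forall_lt ρ π hinj hinj₀ hπ hcomm hq hρ fun Q' hQ' hlt' h => by
        haveI := hQ'
        obtain ⟨z, hz, hz'⟩ := SetLike.exists_of_lt hlt'
        obtain ⟨z, rfl⟩ := Ideal.Quotient.mk_surjective z
        have hu : (Q'.comap (Ideal.Quotient.mk P)).under R = q := by
          ext a
          have ha := SetLike.ext_iff.1 h (Ideal.Quotient.mk p a)
          exact ha.trans (hkπ (algebraMap R S a))
        refine hcov.2 (c := ⟨Q'.comap (Ideal.Quotient.mk P), inferInstance⟩) ?_ ?_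
        · refine lt_of_le_of_ne (fun a ha => ?_) fun h' => heq ?_
          · show Ideal.Quotient.mk P a ∈ Q'
            rw [Ideal.Quotient.eq_zero_iff_mem.2 ha]
            exact zero_mem _
          · rw [← hu, show Q'.comap (Ideal.Quotient.mk P) = P from (congrArg PrimeSpectrum.asIdeal h').symm]
        · show Q'.comap (Ideal.Quotient.mk P) < Q
          exact SetLike.lt_iff_le_and_exists.2 ⟨fun a ha => (hkπ a).1 (hlt'.le ha), z, (hkπ z).1 hz, hz'⟩
      have hmid : ∀ q₁ : Ideal R, q₁.IsPrime → p < q₁ → q₁ < q → False := by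
        intro q₁ hq₁ h1 h2
        haveI : (RingHom.ker π).IsPrime := RingHom.ker_isPrime π
        have hcq : (RingHom.ker π).comap (algebraMap (R ⧸ p) (S ⧸ P)) = RingHom.ker ρ := by
          ext a
          obtain ⟨a, rfl⟩ := Ideal.Quotient.mk_surjective a
          rw [hkρ]
          exact hkπ (algebraMap R S a)
        haveI : (q₁.map (Ideal.Quotient.mk p)).IsPrime :=
          Ideal.map_isPrime_of_surjective Ideal.Quotient.mk_surjective (by rw [Ideal.mk_ker]; exact h1.le)
        obtain ⟨Q₁, hQ₁, hle, hu⟩ := exists_prime_le hinj (RingHom.ker π) (hcq.symm ▸ hq)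
          (q₁.map (Ideal.Quotient.mk p)) (by
            rw [hcq, Ideal.map_le_iff_le_comap]
            exact fun a ha => (hkρ a).2 (h2.le ha))
        have hu' : (Q₁.comap (Ideal.Quotient.mk P)).under R = q₁ := by
          have h3 := congrArg (Ideal.comap (Ideal.Quotient.mk p)) hu
          rw [Ideal.comap_map_of_surjective _ Ideal.Quotient.mk_surjective, ← RingHom.ker_eq_comap_bot,
            Ideal.mk_ker, sup_eq_left.2 h1.le] at h3
          exact h3
        haveI := hQ₁
        refine hbetween (Q₁.comap (Ideal.Quotient.mk P)) inferInstance (fun a ha => ?_)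
          (fun a ha => (hkπ a).1 (hle ha)) ?_ ?_
        · show Ideal.Quotient.mk P a ∈ Q₁
          rw [Ideal.Quotient.eq_zero_iff_mem.2 ha]
          exact zero_mem _
        · rw [hu']; exact h1.ne'
        · rw [hu']; exact h2.ne
      have hh : q.height = p.height + 1 := by
        refine le_antisymm ?_ (Ideal.height_add_one_le_of_lt_of_isPrime hlt)
        show (⟨q, inferInstance⟩ : PrimeSpectrum R).asIdeal.height ≤ (⟨p, inferInstance⟩ : PrimeSpectrum R).asIdeal.height + 1
        rw [PrimeSpectrum.height_eq_orderHeight, PrimeSpectrum.height_eq_orderHeight, Order.height_eq_iSup_lt_height]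
        refine iSup₂_le fun y hy => add_le_add_left ?_ 1
        refine Order.height_mono ?_
        show y.asIdeal ≤ p
        intro a ha
        by_contra hap
        -- comparability below `q`
        have hcmp : p ≤ y.asIdeal := fun b hb => by
          by_contra hby
          obtain ⟨c, d, hd, h | h⟩ := hR q a b
          · have h' : a * d ∈ p := h ▸ p.mul_mem_right c hb
            exact (((inferInstance : p.IsPrime).mem_or_mem h').resolve_left hap |> fun h'' => hd (hpq h''))
          · have h' : b * d ∈ y.asIdeal := h ▸ y.asIdeal.mul_mem_right c ha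
            exact ((y.isPrime.mem_or_mem h').resolve_left hby |> fun h'' => hd ((show y.asIdeal ≤ q from hy.le) h''))
        exact hmid y.asIdeal y.isPrime (lt_of_le_of_ne hcmp fun h => hap (h ▸ ha)) hy
      obtain ⟨m, hm⟩ := ENat.ne_top_iff_exists.1 hpfin
      rw [hh, h1, ← hm]
      have : ((m : ℕ∞) + 1).toNat = m + 1 := by rw [← Nat.cast_one, ← Nat.cast_add, ENat.toNat_coe]
      rw [this, ENat.toNat_coe]
      push_cast
      ring

theorem covBy_iff (P Q : Ideal S) [P.IsPrime] [Q.IsPrime] (hPQ : P < Q) :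
    (⟨P, inferInstance⟩ : PrimeSpectrum S) ⋖ ⟨Q, inferInstance⟩ ↔
      delta (R := R) P = delta (R := R) Q + 1 := by
  refine ⟨(delta_lt_and hR hdim P Q hPQ).2, fun h => ⟨hPQ, fun c h1 h2 => ?_⟩⟩
  have a := (delta_lt_and hR hdim P c.asIdeal h1).1
  have b := (delta_lt_and hR hdim c.asIdeal Q h2).1
  omega

end General

end Groth.Agent.PrufDimLib
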